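import Groth.Agent.S3569
import Groth.Agent.S8255
import Groth.Prelude.Def_RelSpec
/-!
# The universal property of the relative spectrum
-/

universe u

open CategoryTheory CategoryTheory.Limits AlgebraicGeometry TopologicalSpace Opposite

set_option backward.isDefEq.respectTransparency false

noncomputable section

namespace Groth.Agent.RelSpecUP

open RelSpec

variable {S : Scheme.{u}} (A : QCAlg S)

instance : IsIso A.gammaMap := Groth.Agent.S8255.result A

/-- The chart over an affine open is the preimage of that open. -/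
lemma isPullback_chart (U : S.Opens) (hU : IsAffineOpen U) :
    IsPullback (Spec.map (A.str.app (op U))) (A.ι U hU) hU.fromSpec A.π :=
  IsOpenImmersion.isPullback _ _ _ _ (A.ι_π U hU)
    (by rw [hU.opensRange_fromSpec, A.π_preimage U hU])

/-- The charts cover. -/
lemma exists_mem_range_ι (x : A.spec) :
    ∃ (U : S.Opens) (hU : IsAffineOpen U), x ∈ (A.ι U hU).opensRange := by
  obtain ⟨U, hU, hxU, -⟩ := exists_isAffineOpen_mem_and_subset (U := (⊤ : S.Opens)) (x := A.π x) trivial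
  exact ⟨U, hU, by rw [← A.π_preimage U hU]; exact hxU⟩

/-- A morphism out of a relative spectrum is determined on the charts. -/
lemma hom_ext_charts {T : Scheme.{u}} {a b : A.spec ⟶ T}
    (h : ∀ (U : S.Opens) (hU : IsAffineOpen U), A.ι U hU ≫ a = A.ι U hU ≫ b) : a = b := by
  refine Scheme.Cover.hom_ext A.glueData.cover _ _ fun U => ?_
  exact h U.1 U.2

/-- The algebra map attached to a composite is the composite of the algebra maps. -/
lemma algHom_comp {X Y Z : Scheme.{u}} (f : X ⟶ S) (g : Y ⟶ S) (k : Z ⟶ S)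
    (ψ : Y ⟶ X) (wψ : ψ ≫ f = g) (h : Z ⟶ Y) (wh : h ≫ g = k) :
    AffAlg.algHom f k (h ≫ ψ) (by rw [Category.assoc, wψ, wh]) =
      AffAlg.algHom f g ψ wψ ≫ AffAlg.algHom g k h wh := by
  subst wψ wh
  simp only [AffAlg.algHom, eqToHom_refl, Category.comp_id]
  rfl

/-- `algHom` on sections. -/
lemma algHom_app {X T : Scheme.{u}} (f : X ⟶ S) (g : T ⟶ S) (h : T ⟶ X) (hh : h ≫ f = g) (W : S.Opens) :
    (AffAlg.algHom f g h hh).app (op W) =
      h.appLE (f ⁻¹ᵁ W) (g ⁻¹ᵁ W) (by rw [← Scheme.Hom.comp_preimage, hh]) := by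
  subst hh
  simp [AffAlg.algHom, Scheme.Hom.appLE, Scheme.Hom.app]

/-- `gammaMap` is natural. -/
lemma gammaMap_naturality {A B : QCAlg S} (φ : A ⟶ B) :
    AffAlg.algHom A.π B.π (QCAlg.specMap φ) (QCAlg.specMap_π φ) ≫ B.gammaMap =
      A.gammaMap ≫ φ.hom := by
  apply (Functor.IsCoverDense.restrictHomEquivHom (G := Scheme.AffineZariskiSite.toOpensFunctor S)
    (K := Opens.grothendieckTopology S) (ℱ := A.π.base _* A.spec.presheaf)
    (ℱ' := (⟨B.presheaf, B.isSheaf⟩ : TopCat.Sheaf CommRingCat.{u} S.carrier))).symm.injective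
  ext U : 2
  obtain ⟨⟨U, hU⟩⟩ := U
  change (AffAlg.algHom A.π B.π (QCAlg.specMap φ) (QCAlg.specMap_π φ)).app (op U) ≫
      B.gammaMap.app (op U) = A.gammaMap.app (op U) ≫ φ.hom.app (op U)
  rw [algHom_app, B.gammaMap_app U hU, A.gammaMap_app U hU, QCAlg.gammaAff, QCAlg.gammaAff,
    Scheme.Hom.appLE_comp_appLE_assoc]
  simp only [QCAlg.ι_specMap U hU φ]
  rw [← Scheme.Hom.appLE_comp_appLE (Spec.map (φ.hom.app (op U))) (A.ι U hU) _ ⊤ _
      (A.top_le_preimage U hU) le_top, Category.assoc, Category.assoc]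
  congr 1
  rw [← Scheme.ΓSpecIso_naturality (φ.hom.app (op U))]
  congr 1

/-- The algebra map attached to a morphism to the relative spectrum. -/
def toAlg {T : Scheme.{u}} (g : T ⟶ S) (h : AffAlg.over A.π g) :
    {ω : A.presheaf ⟶ AffAlg.alg g // A.str ≫ ω = g.c} :=
  ⟨inv A.gammaMap ≫ AffAlg.algHom A.π g h.1 h.2, by
    have : A.str ≫ inv A.gammaMap = A.π.c := by
      rw [IsIso.comp_inv_eq]; exact A.π_c_gammaMap.symm
    rw [reassoc_of% this, AffAlg.algHom_comm]⟩

/-- The universal property of the relative spectrum. -/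
theorem toAlg_bijective {T : Scheme.{u}} (g : T ⟶ S) : Function.Bijective (toAlg A g) := by
  have h := Groth.Agent.S3569.result A.π g
  constructor
  · intro a b hab
    apply h.1
    apply Subtype.ext
    have h1 : inv A.gammaMap ≫ AffAlg.algHom A.π g a.1 a.2 =
        inv A.gammaMap ≫ AffAlg.algHom A.π g b.1 b.2 := congrArg Subtype.val hab
    exact (cancel_epi _).1 h1
  · rintro ⟨ω, hω⟩
    obtain ⟨a, ha⟩ := h.2 ⟨A.gammaMap ≫ ω, by rw [← Category.assoc, A.π_c_gammaMap, hω]⟩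
    refine ⟨a, Subtype.ext ?_⟩
    have h1 : AffAlg.algHom A.π g a.1 a.2 = A.gammaMap ≫ ω := congrArg Subtype.val ha
    change inv A.gammaMap ≫ AffAlg.algHom A.π g a.1 a.2 = ω
    rw [h1, IsIso.inv_hom_id_assoc]

/-- Naturality of the universal property. -/
lemma toAlg_specMap {A B : QCAlg S} (φ : A ⟶ B) {T : Scheme.{u}} (g : T ⟶ S) (h : AffAlg.over B.π g) :
    (toAlg A g ⟨h.1 ≫ QCAlg.specMap φ, by rw [Category.assoc, QCAlg.specMap_π, h.2]⟩).1 =
      φ.hom ≫ (toAlg B g h).1 := by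
  have key : inv A.gammaMap ≫ AffAlg.algHom A.π B.π (QCAlg.specMap φ) (QCAlg.specMap_π φ) =
      φ.hom ≫ inv B.gammaMap := by
    rw [IsIso.inv_comp_eq, ← Category.assoc, IsIso.eq_comp_inv, gammaMap_naturality]
  dsimp only [toAlg]
  rw [algHom_comp A.π B.π g (QCAlg.specMap φ) (QCAlg.specMap_π φ) h.1 h.2, reassoc_of% key]

/-- The algebra map of the identity. -/
lemma toAlg_id : (toAlg A A.π ⟨𝟙 _, Category.id_comp _⟩).1 = inv A.gammaMap := by
  dsimp only [toAlg]
  have : AffAlg.algHom A.π A.π (𝟙 _) (Category.id_comp _) = 𝟙 _ := by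
    ext W : 2
    rw [algHom_app]
    rw [Scheme.Hom.appLE, Scheme.Hom.id_app, Category.id_comp]
    exact congrArg CommRingCat.Hom.hom (A.spec.presheaf.map_id _)
  rw [this, Category.comp_id]

/-- Morphisms out of a relative spectrum agree if they agree on a covering family of charts. -/
lemma hom_ext_cover {T : Scheme.{u}} {a b : A.spec ⟶ T}
    (h : ∀ x : A.spec, ∃ (U : S.Opens) (hU : IsAffineOpen U),
      x ∈ (A.ι U hU).opensRange ∧ A.ι U hU ≫ a = A.ι U hU ≫ b) : a = b := by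
  choose U hU hx he using h
  let 𝒰 := A.spec.openCoverOfIsOpenCover (fun x => (A.ι (U x) (hU x)).opensRange)
    (.mk (top_le_iff.1 fun x _ => Opens.mem_iSup.2 ⟨x, hx x⟩))
  refine Scheme.Cover.hom_ext 𝒰 _ _ fun x => ?_
  change (A.ι (U x) (hU x)).opensRange.ι ≫ a = (A.ι (U x) (hU x)).opensRange.ι ≫ b
  let i := IsOpenImmersion.isoOfRangeEq (A.ι (U x) (hU x)).opensRange.ι (A.ι (U x) (hU x)) (by simp)
  rw [← IsOpenImmersion.isoOfRangeEq_hom_fac (A.ι (U x) (hU x)).opensRange.ι (A.ι (U x) (hU x))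
    (by simp), Category.assoc, Category.assoc, he x]

/-- Morphisms from an affine scheme to an affine open. -/
lemma eq_specMap_comp_fromSpec {C : CommRingCat.{u}} {X : Scheme.{u}} {V : X.Opens}
    (hV : IsAffineOpen V) (k : Spec C ⟶ X) (e : ⊤ ≤ k ⁻¹ᵁ V) :
    k = Spec.map (k.appLE V ⊤ e ≫ (Scheme.ΓSpecIso C).hom) ≫ hV.fromSpec := by
  have h := hV.SpecMap_appLE_fromSpec k (isAffineOpen_top _) e
  rw [IsAffineOpen.fromSpec_top, Scheme.isoSpec_Spec_inv] at h
  rw [Spec.map_comp, Category.assoc, h, ← Spec.map_comp_assoc, Iso.inv_hom_id, Spec.map_id,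
    Category.id_comp]

/-- The chart is the affine piece over the open, through `gammaMap`. -/
lemma ι_eq_fromSpec (U : S.Opens) (hU : IsAffineOpen U) :
    A.ι U hU = Spec.map (A.gammaMap.app (op U)) ≫ (hU.preimage A.π).fromSpec := by
  rw [A.gammaMap_app U hU]
  exact eq_specMap_comp_fromSpec (hU.preimage A.π) (A.ι U hU) (A.top_le_preimage U hU)

/-- A morphism to the relative spectrum on an affine piece of the source, through its algebra map. -/
lemma comp_eq_chart {T : Scheme.{u}} (g : T ⟶ S) (h : AffAlg.over A.π g) (U : S.Opens)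
    (hU : IsAffineOpen U) {C : CommRingCat.{u}} (k : Spec C ⟶ T) (e : ⊤ ≤ k ⁻¹ᵁ (g ⁻¹ᵁ U)) :
    k ≫ h.1 = Spec.map ((toAlg A g h).1.app (op U) ≫ k.appLE (g ⁻¹ᵁ U) ⊤ e ≫
      (Scheme.ΓSpecIso C).hom) ≫ A.ι U hU := by
  have hle : g ⁻¹ᵁ U ≤ h.1 ⁻¹ᵁ (A.π ⁻¹ᵁ U) := by rw [← Scheme.Hom.comp_preimage, h.2]
  have e' : ⊤ ≤ (k ≫ h.1) ⁻¹ᵁ (A.π ⁻¹ᵁ U) := e.trans (k.preimage_mono hle)
  rw [ι_eq_fromSpec A U hU]
  refine (eq_specMap_comp_fromSpec (hU.preimage A.π) (k ≫ h.1) e').trans ?_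
  rw [← Spec.map_comp_assoc]
  congr 2
  dsimp only [toAlg]
  rw [NatTrans.comp_app, algHom_app, ← Category.assoc (A.gammaMap.app (op U)),
    ← Category.assoc (A.gammaMap.app (op U)), ← NatTrans.comp_app, IsIso.hom_inv_id]
  rw [← Scheme.Hom.appLE_comp_appLE k h.1 _ (g ⁻¹ᵁ U) ⊤ hle e]
  simp

/-- A morphism is an isomorphism if it maps open pieces isomorphically onto a covering family, with
these pieces being the full preimages. -/
lemma isIso_of_charts {X Y : Scheme.{u}} (c : X ⟶ Y)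
    (h : ∀ y : Y, ∃ (Z : Scheme.{u}) (e : Z ⟶ X) (_ : IsOpenImmersion e) (_ : IsOpenImmersion (e ≫ c)),
      y ∈ (e ≫ c).opensRange ∧ c ⁻¹ᵁ (e ≫ c).opensRange ≤ e.opensRange) : IsIso c := by
  choose Z e _ _ hy hle using h
  have hP : (MorphismProperty.isomorphisms Scheme.{u}) c := by
    refine IsZariskiLocalAtTarget.of_iSup_eq_top (P := MorphismProperty.isomorphisms Scheme.{u})
      (fun y => (e y ≫ c).opensRange) (top_le_iff.1 fun y _ => Opens.mem_iSup.2 ⟨y, hy y⟩) fun y => ?_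
    have heq : (c ⁻¹ᵁ (e y ≫ c).opensRange).ι.opensRange = (e y).opensRange := by
      rw [Scheme.Opens.opensRange_ι]
      refine le_antisymm (hle y) ?_
      rintro _ ⟨z, rfl⟩
      exact ⟨z, rfl⟩
    let i := IsOpenImmersion.isoOfRangeEq (e y) (c ⁻¹ᵁ (e y ≫ c).opensRange).ι
      (congrArg (fun O : X.Opens => (O : Set X)) heq.symm)
    have h1 : i.hom ≫ (c ∣_ (e y ≫ c).opensRange) ≫ (e y ≫ c).opensRange.ι = e y ≫ c := by
      rw [morphismRestrict_ι, IsOpenImmersion.isoOfRangeEq_hom_fac_assoc]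
    let j := IsOpenImmersion.isoOfRangeEq (e y ≫ c) (e y ≫ c).opensRange.ι (by simp)
    have h2 : i.hom ≫ (c ∣_ (e y ≫ c).opensRange) = j.hom := by
      rw [← cancel_mono (e y ≫ c).opensRange.ι, Category.assoc, h1,
        IsOpenImmersion.isoOfRangeEq_hom_fac]
    have h3 : c ∣_ (e y ≫ c).opensRange = i.inv ≫ j.hom := by rw [← h2, Iso.inv_hom_id_assoc]
    change IsIso _
    rw [h3]
    infer_instance
  exact hP

end Groth.Agent.RelSpecUP
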