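import Groth.Agent.RelSpecUP.Basic
import Groth.Prelude.Def_RelProj4
/-!
# Morphisms of relative spectra over a change of base
-/

universe u

open CategoryTheory CategoryTheory.Limits AlgebraicGeometry TopologicalSpace Opposite

set_option backward.isDefEq.respectTransparency false

noncomputable section

namespace Groth.Agent.RelSpecUP

open RelSpec

variable {S S' : Scheme.{u}} {g : S' ⟶ S} {A : QCAlg S} {B : QCAlg S'} (u : QHom g A B)

/-- A `g`-morphism as a map of presheaves. -/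
def qNat : A.presheaf ⟶ g.base _* B.presheaf where
  app V := u.app V.unop
  naturality V W i := (u.naturality i.unop.le).symm

variable {u} {h : B.spec ⟶ A.spec}

/-- Affine pairs cover. -/
lemma exists_pair (U : S.Opens) (x : B.spec) (hx : g (B.π x) ∈ U) :
    ∃ (U' : S'.Opens) (hU' : IsAffineOpen U'), U' ≤ g ⁻¹ᵁ U ∧ x ∈ (B.ι U' hU').opensRange := by
  obtain ⟨U', hU', hxU', hle⟩ := exists_isAffineOpen_mem_and_subset (U := g ⁻¹ᵁ U) (x := B.π x) hx
  exact ⟨U', hU', hle, by rw [← B.π_preimage U' hU']; exact hxU'⟩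

lemma specQMap_π (hh : IsSpecQMap u h) : h ≫ A.π = B.π ≫ g := by
  refine hom_ext_cover B fun x => ?_
  obtain ⟨U, hU, hxU, -⟩ := exists_isAffineOpen_mem_and_subset (U := (⊤ : S.Opens))
    (x := g (B.π x)) trivial
  obtain ⟨U', hU', hle, hx⟩ := exists_pair U x hxU
  refine ⟨U', hU', hx, ?_⟩
  rw [← Category.assoc, hh U hU U' hU' hle, Category.assoc, A.ι_π, ← Category.assoc, ← Category.assoc,
    B.ι_π, ← Spec.map_comp, u.str_appLE U U' hle, Spec.map_comp, Category.assoc, Category.assoc,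
    hU.SpecMap_appLE_fromSpec g hU' hle]

/-- The algebra map of the morphism of spectra attached to a `g`-morphism is that morphism. -/
theorem toAlg_specQMap (hh : IsSpecQMap u h) :
    (toAlg A (B.π ≫ g) ⟨h, specQMap_π hh⟩).1 =
      qNat u ≫ (TopCat.Presheaf.pushforward CommRingCat.{u} g.base).map (inv B.gammaMap) := by
  let Q := TopCat.Presheaf.pushforward CommRingCat.{u} g.base
  have hB : B.str ≫ inv B.gammaMap = B.π.c := by
    rw [IsIso.comp_inv_eq]; exact B.π_c_gammaMap.symm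
  have hω : A.str ≫ qNat u ≫ Q.map (inv B.gammaMap) = (B.π ≫ g).c := by
    have h1 : A.str ≫ qNat u = g.c ≫ Q.map B.str := by
      apply NatTrans.ext
      funext V
      exact u.str_app V.unop
    rw [reassoc_of% h1, ← Functor.map_comp, hB]
    rfl
  obtain ⟨⟨v, hv⟩, hv'⟩ := (toAlg_bijective A (B.π ≫ g)).2 ⟨_, hω⟩
  have hv'' := congrArg Subtype.val hv'
  suffices h = v by subst this; exact hv''
  refine hom_ext_cover B fun x => ?_
  obtain ⟨U, hU, hxU, -⟩ := exists_isAffineOpen_mem_and_subset (U := (⊤ : S.Opens))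
    (x := g (B.π x)) trivial
  obtain ⟨U', hU', hle, hx⟩ := exists_pair U x hxU
  refine ⟨U', hU', hx, (hh U hU U' hU' hle).trans ?_⟩
  have hle' : B.π ⁻¹ᵁ U' ≤ (B.π ≫ g) ⁻¹ᵁ U := B.π.preimage_mono hle
  rw [comp_eq_chart A (B.π ≫ g) ⟨v, hv⟩ U hU (B.ι U' hU')
    ((B.top_le_preimage U' hU').trans ((B.ι U' hU').preimage_mono hle')), hv'']
  congr 2
  have hnat : B.spec.presheaf.map (homOfLE hle').op ≫ B.gammaMap.app (op U') =
      B.gammaMap.app (op (g ⁻¹ᵁ U)) ≫ B.presheaf.map (homOfLE hle).op :=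
    B.gammaMap.naturality (homOfLE hle).op
  rw [B.gammaMap_app U' hU', QCAlg.gammaAff, Scheme.Hom.map_appLE_assoc] at hnat
  change u.app U ≫ _ = (u.app U ≫ (inv B.gammaMap).app (op (g ⁻¹ᵁ U))) ≫ _
  rw [Category.assoc]
  congr 1
  rw [NatIso.isIso_inv_app, eq_comm, IsIso.inv_comp_eq]
  exact hnat

end Groth.Agent.RelSpecUP
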